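import Cfsg.Agent.Mrg.Omega.NO3S.OneQ.Sg.LocB


/-!
# NO-3S, `OneSz` (`q ≥ 4`, `n = 1`), case (N), `k ≥ 2`: `β` is alternating (bb OMEGA #20317 (F), pure part)

* `SgB.inv_sub` : a subspace `≥ Ebar_l` invariant under the transvections of `A_l` which fix `P` is `P` or `M`;
* **`SgB.alt`** : `β_l` is alternating;
* **`SgB.ind`** : `β_l(b, c) ≠ 0` for `F`-independent `b, c ∈ A_l`.
-/

set_option autoImplicit false
set_option linter.unusedSectionVars false

namespace Cfsg.Agent.Omega.NO3S.OneQ.Sg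

open TIq (NP)

variable {F M H : Type*} [Field F] [AddCommGroup M] [Module F M] [Group H] [DistribMulAction H M] {L : Set M}
    {A : M → Subgroup H} {I : M → Submodule F M} {al : M → M → H}

namespace Pre

variable (G : Pre F L A I al)
include G

theorem eq_add (a : H) (m : M) : a • m = m + (a • m + m) := by
  rw [add_comm (a • m) m, G.two_left]

/-- `[m, α(x) α(y)] = [m, α(x)] [m, α(y)]` -/
theorem br_add {l : M} (hl : l ∈ L) (m x y : M) :
    al l (x + y) • m + m = (al l x • m + m) + (al l y • m + m) := by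
  obtain ⟨v, hv⟩ : ∃ v, v = al l y • m + m := ⟨_, rfl⟩
  have h1 : al l x • v = v := hv ▸ G.fix hl (G.al_mem hl x) (G.comm hl (G.al_mem hl y) m)
  have h2 : al l y • m = m + v := by rw [hv]; exact G.eq_add _ m
  rw [← hv, G.al_add hl, mul_smul, h2, smul_add, h1]
  abel

/-- `[m, α(x)]` mod `λ_l` is `F`-linear in `m` -/
theorem br_left (m m' x l : M) : al l x • (m + m') + (m + m') = (al l x • m + m) + (al l x • m' + m') := by
  rw [smul_add]; abel

/-- `{x : β(x, x) = 0}` -/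
def Kq {l : M} (hl : l ∈ L) : Submodule F M where
  carrier := {x | ∃ c : F, al l x • x + x = c • l}
  add_mem' := by
    rintro x y ⟨c, hc⟩ ⟨d, hd⟩
    obtain ⟨e, he⟩ := G.sy hl x y
    refine ⟨c + e + d, ?_⟩
    rw [G.br_add hl, G.br_left, G.br_left, hc, hd, add_smul, add_smul, ← he]
    abel
  zero_mem' := ⟨0, by rw [smul_zero, add_zero, zero_smul]⟩
  smul_mem' := by
    rintro c x ⟨d, hd⟩
    obtain ⟨e, he⟩ := G.bl hl c x x
    refine ⟨c * (c * d + e), ?_⟩
    rw [G.lin, ← smul_add, he, hd, smul_smul, ← add_smul, smul_smul]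

theorem mem_Kq {l : M} (hl : l ∈ L) {x : M} : x ∈ G.Kq hl ↔ ∃ c : F, al l x • x + x = c • l := Iff.rfl

/-- `{y : β(x, y) = 0}` -/
def Rx {l : M} (hl : l ∈ L) (x : M) : Submodule F M where
  carrier := {y | ∃ c : F, al l y • x + x = c • l}
  add_mem' := by
    rintro y z ⟨c, hc⟩ ⟨d, hd⟩
    exact ⟨c + d, by rw [G.br_add hl, hc, hd, add_smul]⟩
  zero_mem' := ⟨0, by rw [G.al_zero hl, one_smul, G.two, zero_smul]⟩
  smul_mem' := by
    rintro c y ⟨d, hd⟩
    obtain ⟨e, he⟩ := G.bl hl c x y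
    exact ⟨c * d + e, by rw [he, hd, smul_smul, ← add_smul]⟩

theorem mem_Rx {l : M} (hl : l ∈ L) {x y : M} : y ∈ G.Rx hl x ↔ ∃ c : F, al l y • x + x = c • l := Iff.rfl

theorem E_le_Kq {l : M} (hl : l ∈ L) : G.E hl ≤ G.Kq hl := fun _ he =>
  ⟨0, by rw [(G.mem_E hl).1 he, one_smul, G.two, zero_smul]⟩

theorem E_le_Rx {l : M} (hl : l ∈ L) (x : M) : G.E hl ≤ G.Rx hl x := fun _ he =>
  ⟨0, by rw [(G.mem_E hl).1 he, one_smul, G.two, zero_smul]⟩

theorem Kq_inv {l : M} (hl : l ∈ L) {b : H} (hb : b • l = l) {y : M} (hy : y ∈ G.Kq hl) : b • y ∈ G.Kq hl := by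
  obtain ⟨c, hc⟩ := hy
  refine ⟨c, ?_⟩
  have h1 : al l (b • y) • (b • y) + b • y = b • (al l y • y + y) := by
    rw [G.al_conj hl hb, smul_add, ← mul_smul, ← mul_smul]
    congr 2
    group
  rw [h1, hc, G.lin, hb]

theorem Rx_inv {l : M} (hl : l ∈ L) {b : H} (hb : b • l = l) {x y : M} (hx : al l (b • x) = al l x)
    (hy : y ∈ G.Rx hl x) : b • y ∈ G.Rx hl x := by
  obtain ⟨c, hc⟩ := hy
  have h1 : al l (b • y) • (b • x) + b • x = b • (al l y • x + x) := by
    rw [G.al_conj hl hb, smul_add, ← mul_smul, ← mul_smul]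
    congr 2
    group
  have h2 : al l (b • x + x) = 1 := (G.al_congr hl).1 hx
  obtain ⟨d, hd⟩ := G.phi_ex hl h2 (b • y)
  refine ⟨c + d, ?_⟩
  have h3 : x = b • x + (b • x + x) := by rw [G.two_left]
  calc al l (b • y) • x + x = al l (b • y) • (b • x + (b • x + x)) + (b • x + (b • x + x)) := by rw [← h3]
    _ = (al l (b • y) • (b • x) + b • x) + (al l (b • y) • (b • x + x) + (b • x + x)) := G.br_left _ _ _ _
    _ = (c + d) • l := by rw [h1, hc, hd, G.lin, hb, add_smul]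

end Pre

namespace SgB

variable [Finite H] [FiniteDimensional F M] (G : SgB F L A I al)
include G

/-- a subspace `≥ Ebar_l`, invariant under the transvections which fix `P`, is `P` or `M` -/
theorem inv_sub {l : M} (hl : l ∈ L) {P N : Submodule F M} (hE : G.E hl ≤ P) (hPN : P ≤ N)
    (hN : ∀ b : H, b • l = l → (∀ x ∈ P, al l (b • x) = al l x) → ∀ y ∈ N, b • y ∈ N) {j : M} (hj : j ∈ N)
    (hjP : j ∉ P) (y : M) : y ∈ N := by
  by_cases hy : y ∈ P ⊔ Submodule.span F {j}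
  · refine (sup_le hPN ?_) hy
    rw [Submodule.span_singleton_le_iff_mem]
    exact hj
  obtain ⟨f₁, hf₁, hf₁'⟩ := Submodule.exists_le_ker_of_notMem hy
  obtain ⟨f₂, hf₂, hf₂'⟩ := Submodule.exists_le_ker_of_notMem hjP
  have k₁ : ∀ x ∈ P, f₁ x = 0 := fun x hx => hf₁' (Submodule.mem_sup_left hx)
  have k₁j : f₁ j = 0 := hf₁' (Submodule.mem_sup_right (Submodule.mem_span_singleton_self j))
  have k₂ : ∀ x ∈ P, f₂ x = 0 := fun x hx => hf₂' hx
  obtain ⟨f, hf⟩ : ∃ f : M →ₗ[F] F, f = (f₂ j)⁻¹ • f₂ + ((1 - (f₂ j)⁻¹ * f₂ y) * (f₁ y)⁻¹) • f₁ := ⟨_, rfl⟩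
  have hfP : ∀ x ∈ P, f x = 0 := fun x hx => by
    rw [hf]; simp [k₁ x hx, k₂ x hx]
  have hfj : f j = 1 := by
    rw [hf]; simp [k₁j, inv_mul_cancel₀ hf₂]
  have hfy : f y = 1 := by
    rw [hf, LinearMap.add_apply, LinearMap.smul_apply, LinearMap.smul_apply, smul_eq_mul, smul_eq_mul, mul_assoc,
      inv_mul_cancel₀ hf₁, mul_one]
    ring
  have hd : f (y + j) = 0 := by rw [map_add, hfj, hfy, G.two_F hl]
  obtain ⟨b, hb, hb'⟩ := G.transv hl (fun e he => hfP e (hE he)) hd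
  have h1 : b • j ∈ N := hN b hb (fun x hx => by rw [hb', hfP x hx, zero_smul, add_zero]) j hj
  have h2 : al l (b • j) = al l y := by
    rw [hb', hfj, one_smul]
    congr 1
    rw [add_comm y j, G.two_left]
  have h3 : b • j + y ∈ N := hPN (hE ((G.al_congr hl).1 h2))
  have h4 := N.add_mem h1 h3
  rwa [G.two_left] at h4

/-- **`β` is alternating** -/
theorem alt [Finite F]
    (K : ∀ {l m x : M} (f : M →ₗ[F] F), l ∈ L → m ∈ L → al l m ≠ 1 → al m l ≠ 1 → (∀ e, al m e = 1 → f e = 0) →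
      f l ≠ 0 → f (al l x • m + m) = 0 → (∀ c : F, al l x • x + x ≠ c • l) → ∃ c : F, al l m • m + m = c • l)
    (sp : ∀ {l : M}, l ∈ L → ∃ m ∈ L, al l m ≠ 1 ∧ al m l ≠ 1)
    (big : ∀ {l : M}, l ∈ L → ∃ x y : M, T.Pre.Ind F al l x y) {l : M} (hl : l ∈ L) (x : M) :
    ∃ c : F, al l x • x + x = c • l := by
  by_cases hK : ∃ j ∈ G.Kq hl, al l j ≠ 1
  · obtain ⟨j, hj, hj1⟩ := hK
    exact G.inv_sub hl le_rfl (G.E_le_Kq hl) (fun b hb _ y hy => G.Kq_inv hl hb hy) hj hj1 x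
  exfalso
  push Not at hK
  obtain ⟨m, hm, hlm, hml⟩ := sp hl
  -- find `x`
  obtain ⟨z, hz1, hz⟩ : ∃ z, al l z ≠ 1 ∧ l ∉ G.E hm ⊔ Submodule.span F {al l z • m + m} := by
    by_contra hcon
    push Not at hcon
    obtain ⟨x₁, x₂, hi⟩ := big hl
    have key : ∀ z, al l z ≠ 1 → ∃ σ : F, σ ≠ 0 ∧ al l z • m + m + σ • l ∈ G.E hm := by
      intro z hz
      obtain ⟨e, he, w, hw, hew⟩ := Submodule.mem_sup.1 (hcon z hz)
      obtain ⟨ρ, rfl⟩ := Submodule.mem_span_singleton.1 hw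
      have hρ : ρ ≠ 0 := by
        rintro rfl
        rw [zero_smul, add_zero] at hew
        exact hml (hew ▸ he)
      refine ⟨ρ⁻¹, inv_ne_zero hρ, ?_⟩
      have h0 : ρ⁻¹ • l = al l z • m + m + ρ⁻¹ • e := by
        have h0 := congrArg (fun t => ρ⁻¹ • t) hew
        rw [smul_add, smul_smul, inv_mul_cancel₀ hρ, one_smul] at h0
        rw [← h0, add_comm]
      have h1 : al l z • m + m + ρ⁻¹ • l = ρ⁻¹ • e := by
        rw [h0, G.two_left]
      rw [h1]
      exact (G.E hm).smul_mem _ he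
    have key' : ∀ z, ∃ σ : F, (al l z ≠ 1 → σ ≠ 0) ∧ al l z • m + m + σ • l ∈ G.E hm := by
      intro z
      by_cases hz : al l z = 1
      · refine ⟨0, fun h => absurd hz h, ?_⟩
        rw [hz, one_smul, G.two, zero_smul, add_zero]
        exact (G.E hm).zero_mem
      · obtain ⟨σ, h1, h2⟩ := key z hz
        exact ⟨σ, fun _ => h1, h2⟩
    choose σ hσ hσ' using key'
    have hinj : Function.Injective (fun p : F × F => σ (p.1 • x₁ + p.2 • x₂)) := by
      rintro ⟨s, t⟩ ⟨s', t'⟩ h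
      change σ (s • x₁ + t • x₂) = σ (s' • x₁ + t' • x₂) at h
      by_contra hne
      have h1 : (s • x₁ + t • x₂) + (s' • x₁ + t' • x₂) = (s + s') • x₁ + (t + t') • x₂ := by
        rw [add_smul, add_smul]; abel
      have h2 : al l ((s + s') • x₁ + (t + t') • x₂) ≠ 1 := by
        intro h3
        obtain ⟨h4, h5⟩ := hi _ _ h3
        exact hne (Prod.ext (G.eq_of_add_F hl h4) (G.eq_of_add_F hl h5))
      have h3 := (G.E hm).add_mem (hσ' (s • x₁ + t • x₂)) (hσ' (s' • x₁ + t' • x₂))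
      have h4 : al l (s • x₁ + t • x₂) • m + m + σ (s • x₁ + t • x₂) • l +
          (al l (s' • x₁ + t' • x₂) • m + m + σ (s' • x₁ + t' • x₂) • l) =
          al l ((s + s') • x₁ + (t + t') • x₂) • m + m := by
        rw [← h1, G.br_add hl m (s • x₁ + t • x₂) (s' • x₁ + t' • x₂), h]
        have := G.two (σ (s' • x₁ + t' • x₂) • l)
        calc al l (s • x₁ + t • x₂) • m + m + σ (s' • x₁ + t' • x₂) • l +
              (al l (s' • x₁ + t' • x₂) • m + m + σ (s' • x₁ + t' • x₂) • l) =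
              (al l (s • x₁ + t • x₂) • m + m) + (al l (s' • x₁ + t' • x₂) • m + m) +
                (σ (s' • x₁ + t' • x₂) • l + σ (s' • x₁ + t' • x₂) • l) := by abel
          _ = _ := by rw [this, add_zero]
      rw [h4] at h3
      have h5 := (G.E hm).add_mem h3 (hσ' ((s + s') • x₁ + (t + t') • x₂))
      rw [G.two_left] at h5
      have h6 := (G.E hm).smul_mem (σ ((s + s') • x₁ + (t + t') • x₂))⁻¹ h5
      rw [smul_smul, inv_mul_cancel₀ (hσ _ h2), one_smul] at h6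
      exact hml h6
    have h1 := Nat.card_le_card_of_injective _ hinj
    rw [Nat.card_prod] at h1
    have h2 : 1 < Nat.card F := Finite.one_lt_card
    nlinarith
  obtain ⟨f, hf, hf'⟩ := Submodule.exists_le_ker_of_notMem hz
  obtain ⟨c, hc⟩ := K f hl hm hlm hml (fun e he => hf' (Submodule.mem_sup_left he)) hf
    (hf' (Submodule.mem_sup_right (Submodule.mem_span_singleton_self _))) (fun c hc => hz1 (hK z ⟨c, hc⟩))
  exact hlm (hK m ⟨c, hc⟩)

/-- **`β(b, c) ≠ 0` for `F`-independent `b`, `c`** -/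
theorem ind (alt : ∀ {l : M}, l ∈ L → ∀ x : M, ∃ c : F, al l x • x + x = c • l) {l : M} (hl : l ∈ L) {i j : M}
    (hi : T.Pre.Ind F al l i j) (d : F) : al l j • i + i ≠ d • l := by
  intro h
  have hP : ∀ y, y ∈ G.Rx hl i := by
    refine G.inv_sub hl (P := G.E hl ⊔ Submodule.span F {i}) le_sup_left
      (sup_le (G.E_le_Rx hl i) ?_) (fun b hb hb' y hy => G.Rx_inv hl hb (hb' i (Submodule.mem_sup_right
        (Submodule.mem_span_singleton_self i))) hy) ⟨d, h⟩ ?_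
    · rw [Submodule.span_singleton_le_iff_mem]
      exact alt hl i
    · intro hj
      obtain ⟨e, he, w, hw, hew⟩ := Submodule.mem_sup.1 hj
      obtain ⟨c, rfl⟩ := Submodule.mem_span_singleton.1 hw
      have h1 : al l (c • i + (1 : F) • j) = 1 := by
        rw [one_smul, ← hew, add_comm e, G.two_left]
        exact he
      exact one_ne_zero (hi _ _ h1).2
  have h1 : al l i = 1 := by
    rw [G.al_ker hl]
    intro a ha
    obtain ⟨y, rfl⟩ := G.al_surj hl ha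
    obtain ⟨c, hc⟩ := hP y
    exact ⟨c, by rw [G.toPre.eq_add (al l y) i, hc]⟩
  have := (hi 1 0 (by rw [one_smul, zero_smul, add_zero]; exact h1)).1
  exact one_ne_zero this

/-- **TI for `k ≥ 2`** -/
theorem ti_main [Finite F] (C : T.Cop F L A I al)
    (K : ∀ {l m x : M} (f : M →ₗ[F] F), l ∈ L → m ∈ L → al l m ≠ 1 → al m l ≠ 1 → (∀ e, al m e = 1 → f e = 0) →
      f l ≠ 0 → f (al l x • m + m) = 0 → (∀ c : F, al l x • x + x ≠ c • l) → ∃ c : F, al l m • m + m = c • l)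
    (sp : ∀ {l : M}, l ∈ L → ∃ m ∈ L, al l m ≠ 1 ∧ al m l ≠ 1)
    (big : ∀ {l : M}, l ∈ L → ∃ x y : M, T.Pre.Ind F al l x y)
    (fold : ∀ {l m : M}, l ∈ L → m ∈ L → m ∈ I l → NP F l m → (∀ a ∈ A m, a ∈ A l) →
      (∀ y, ∃ u v, al l u = 1 ∧ al m v = 1 ∧ y = u + v) → False)
    {l m : M} {a : H} (hl : l ∈ L) (hm : m ∈ L) (ha : a ∈ A l) (ham : a ∈ A m) (ha1 : a ≠ 1) :
    ∃ c : F, m = c • l :=
  G.ti C (G.alt K sp big) (fun hl _ _ hi d => G.ind (G.alt K sp big) hl hi d) fold hl hm ha ham ha1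

end SgB

end Cfsg.Agent.Omega.NO3S.OneQ.Sg
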