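import Cfsg.Agent.Mrg.Omega.NO3S.OneQ.TIq.Base
import Cfsg.Agent.Mrg.Omega.NO3S.OneQ.TIq.Phi

section


/-!
# NO-3S, `OneSz` (`q ≥ 4`, `n = 1`), case (N), `k ≥ 2`: from `v0` to all line vectors, the record `Sg.SgB`

* `Loc.at_J`, `Loc.at_bs` : J and Baer-Suzuki at every `l ∈ LL F H v0`;
* **`Loc.toSgB`** : the record `Sg.SgB`.
-/

set_option autoImplicit false
set_option linter.unusedSectionVars false

namespace Cfsg.Agent.Omega.NO3S.OneQ.TIq.Loc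

variable {F M H : Type*} [Field F] [AddCommGroup M] [Module F M] [Group H] [DistribMulAction H M]
  [SMulCommClass H F M] {v0 : M} {A0 : Subgroup H} {I0 : Submodule F M} {al0 : M → H}
  (D : Loc F v0 A0 I0 al0)
include D

theorem al0_unit {c : F} (hc : c ≠ 0) {m : M} : al0 (c • m) = 1 ↔ al0 m = 1 := by
  rw [D.al_ker, D.al_ker]
  constructor
  · intro h a ha
    obtain ⟨d, hd⟩ := h a ha
    refine ⟨c⁻¹ * d, ?_⟩
    rw [lin] at hd
    have h1 := congrArg (fun w => c⁻¹ • w) hd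
    simp only [smul_add, smul_smul, inv_mul_cancel₀ hc, one_smul] at h1
    exact h1
  · intro h a ha
    obtain ⟨d, hd⟩ := h a ha
    exact ⟨c * d, by rw [lin, hd, smul_add, smul_smul]⟩

/-- **J at all line vectors** -/
theorem at_J (J0 : ∀ {x a : H}, al0 (x • v0) ≠ 1 → al0 (x⁻¹ • v0) ≠ 1 → a ∈ A0 →
      al0 (x⁻¹ • (a • x • v0 + x • v0)) ≠ 1 → ∃ j : M, x⁻¹ • j ∈ I0 ∧ al0 j = 1 ∧ a • j = j ∧ ∃ b ∈ A0, b • j ≠ j)
    {l m : M} {a : H} (hl : l ∈ LL F H v0) (hm : m ∈ LL F H v0) (h1 : AL F v0 al0 l m ≠ 1)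
    (h2 : AL F v0 al0 m l ≠ 1) (ha : a ∈ AA F v0 A0 l) (h3 : AL F v0 al0 m (a • m + m) ≠ 1) :
    ∃ j ∈ II F (H := H) v0 I0 m, AL F v0 al0 l j = 1 ∧ a • j = j ∧ ∃ b ∈ AA F v0 A0 l, b • j ≠ j := by
  obtain ⟨c, hc, hlc⟩ := rr_spec F H hl
  obtain ⟨d, hd, hmd⟩ := rr_spec F H hm
  rw [Ne, D.at_al_one] at h1 h2 h3
  rw [D.mem_AA_rr hl] at ha
  obtain ⟨g, hg⟩ : ∃ g, g = rr F H v0 l := ⟨_, rfl⟩
  obtain ⟨k, hk⟩ : ∃ k, k = rr F H v0 m := ⟨_, rfl⟩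
  rw [← hg] at hlc h1 ha
  rw [← hk] at hmd h2 h3
  obtain ⟨x, hx⟩ : ∃ x, x = g⁻¹ * k := ⟨_, rfl⟩
  have hxi : x⁻¹ = k⁻¹ * g := by rw [hx]; group
  have e1 : g⁻¹ • m = d • x • v0 := by rw [hmd, lin, hx, mul_smul]
  have e2 : k⁻¹ • l = c • x⁻¹ • v0 := by rw [hlc, lin, hxi, mul_smul]
  rw [e1, D.al0_unit hd] at h1
  rw [e2, D.al0_unit hc] at h2
  have e3 : k⁻¹ • (a • m + m) = d • x⁻¹ • ((g⁻¹ * a * g) • x • v0 + x • v0) := by
    have e4 : a • k • v0 = g • (g⁻¹ * a * g) • x • v0 := by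
      rw [hx]
      simp only [smul_smul]
      congr 1
      group
    have e5 : k • v0 = g • x • v0 := by
      rw [hx, smul_smul, mul_inv_cancel_left]
    rw [hmd, lin, e4, e5, ← smul_add, ← smul_add, lin, smul_smul k⁻¹ g, ← hxi]
  rw [e3, D.al0_unit hd] at h3
  obtain ⟨j, hj, hj1, hj2, b, hb, hbj⟩ := J0 h1 h2 ha h3
  refine ⟨g • j, ?_, ?_, ?_, g * b * g⁻¹, ?_, ?_⟩
  · rw [D.mem_II hd hmd, smul_smul, ← hxi]
    exact hj
  · rw [D.at_al_one, ← hg, inv_smul_smul]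
    exact hj1
  · have e : a • g • j = g • (g⁻¹ * a * g) • j := by
      simp only [smul_smul]
      congr 1
      group
    rw [e, hj2]
  · rw [D.mem_AA_rr hl, ← hg]
    have e : g⁻¹ * (g * b * g⁻¹) * g = b := by group
    rw [e]
    exact hb
  · intro e
    apply hbj
    have e' : (g * b * g⁻¹) • g • j = g • b • j := by
      simp only [smul_smul]
      congr 1
      group
    rw [e'] at e
    exact smul_left_cancel g e

/-- **Baer-Suzuki at all line vectors** -/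
theorem at_bs (bs0 : ∀ {a : H}, a ∈ A0 → a ≠ 1 → ∃ o : H, o ≠ 1 ∧ Odd (orderOf o) ∧ a * o * a⁻¹ = o⁻¹) {l : M}
    {a : H} (hl : l ∈ LL F H v0) (ha : a ∈ AA F v0 A0 l) (ha1 : a ≠ 1) :
    ∃ o : H, o ≠ 1 ∧ Odd (orderOf o) ∧ a * o * a⁻¹ = o⁻¹ := by
  rw [D.mem_AA_rr hl] at ha
  obtain ⟨g, hg⟩ : ∃ g, g = rr F H v0 l := ⟨_, rfl⟩
  rw [← hg] at ha
  obtain ⟨o, ho1, ho, hoa⟩ := bs0 ha (fun e => ha1 (by
    calc a = g * (g⁻¹ * a * g) * g⁻¹ := by group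
      _ = 1 := by rw [e]; group))
  refine ⟨g * o * g⁻¹, fun e => ho1 (conj_eq_one_iff.1 e), ?_, ?_⟩
  · have : orderOf (g * o * g⁻¹) = orderOf o := by
      have := (MulAut.conj g).orderOf_eq o
      rwa [MulAut.conj_apply] at this
    rw [this]
    exact ho
  · have h1 : g * (g⁻¹ * a * g * o * (g⁻¹ * a * g)⁻¹) * g⁻¹ = a * (g * o * g⁻¹) * a⁻¹ := by group
    rw [← h1, hoa]
    group

/-- **the record `Sg.SgB`** -/
theorem toSgB (P : Sg.Pre F (LL F H v0) (AA F v0 A0) (II F (H := H) v0 I0) (AL F v0 al0))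
    (J0 : ∀ {x a : H}, al0 (x • v0) ≠ 1 → al0 (x⁻¹ • v0) ≠ 1 → a ∈ A0 →
      al0 (x⁻¹ • (a • x • v0 + x • v0)) ≠ 1 → ∃ j : M, x⁻¹ • j ∈ I0 ∧ al0 j = 1 ∧ a • j = j ∧ ∃ b ∈ A0, b • j ≠ j)
    (bs0 : ∀ {a : H}, a ∈ A0 → a ≠ 1 → ∃ o : H, o ≠ 1 ∧ Odd (orderOf o) ∧ a * o * a⁻¹ = o⁻¹) :
    Sg.SgB F (LL F H v0) (AA F v0 A0) (II F (H := H) v0 I0) (AL F v0 al0) :=
  { P with
    J := D.at_J J0
    bs := D.at_bs bs0 }

end Cfsg.Agent.Omega.NO3S.OneQ.TIq.Loc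

end

section


/-!
# NO-3S, `OneSz` (`q ≥ 4`, `n = 1`), case (N), `k ≥ 2`: TI over `SgB` (bb OMEGA #20317 (H))

* **`SgB.ti`** : `SgB` + (G) (`T.Cop`) + (F) (`alt`, `ind`) + LEMMA PLANE (`fold`) ⟹ TI.
-/

set_option autoImplicit false
set_option linter.unusedSectionVars false

namespace Cfsg.Agent.Omega.NO3S.OneQ.Sg

open TIq (NP)

variable {F M H : Type*} [Field F] [AddCommGroup M] [Module F M] [Group H] [DistribMulAction H M] {L : Set M}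
    {A : M → Subgroup H} {I : M → Submodule F M} {al : M → M → H}

theorem Pre.toT (G : Pre F L A I al) : T.Pre F L A I al where
  two := G.two
  lin := G.lin
  zero := G.zero
  smul := G.smul
  fsm := G.fsm
  A_sm := G.A_sm
  I_sm := G.I_sm
  trans := G.trans
  A_conj := G.A_conj
  I_conj := G.I_conj
  sq := G.sq
  self := G.self
  comm := G.comm
  fix := G.fix
  plane := G.plane
  al_mem := G.al_mem
  al_add := G.al_add
  al_surj := G.al_surj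
  al_conj := G.al_conj
  al_ker := G.al_ker
  sy := G.sy
  bl := G.bl
  dual := G.dual

theorem Pre.hyp_toT [Finite H] (G : Pre F L A I al) {l w : M} (hl : l ∈ L) (hw : w ∈ L) (h : Hyp A al l w) :
    T.Hyp F L A l w where
  mem := hw
  back := fun a' ha' => (G.al_ker hw l).1 h.al2 a' ha'
  move := h.mv2
  tv := fun a ha haw b hb hbw => by
    obtain ⟨c', hc', hcl, hcc⟩ := G.hyp_surj hl hw h ha haw hb hbw
    refine ⟨c', hc', hcl, ?_⟩
    rw [G.A_comm hl ha hb, ← hcc, inv_mul_cancel_right]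
  cent := fun b hb hbw c' hc' hcl => G.hyp_comm hl hw h hb hbw hc' hcl
  inj := fun b hb _ hb1 a' ha' hal' hc => hb1 (G.hyp_free hw hl h.symm ha' hal' hb hc.symm)
  inj' := fun b' hb' _ hb1 a ha haw hc => hb1 (G.hyp_free hl hw h ha haw hb' hc.symm)

/-- **(H)** -/
theorem SgB.ti [Finite H] [Finite F] [FiniteDimensional F M] (G : SgB F L A I al) (C : T.Cop F L A I al)
    (alt : ∀ {l : M}, l ∈ L → ∀ x : M, ∃ c : F, al l x • x + x = c • l)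
    (ind : ∀ {l : M}, l ∈ L → ∀ i j : M, T.Pre.Ind F al l i j → ∀ d : F, al l j • i + i ≠ d • l)
    (fold : ∀ {l m : M}, l ∈ L → m ∈ L → m ∈ I l → NP F l m → (∀ a ∈ A m, a ∈ A l) →
      (∀ y, ∃ u v, al l u = 1 ∧ al m v = 1 ∧ y = u + v) → False)
    {l m : M} {a : H} (hl : l ∈ L) (hm : m ∈ L) (ha : a ∈ A l) (ham : a ∈ A m) (ha1 : a ≠ 1) :
    ∃ c : F, m = c • l :=
  G.toPre.toT.ti C alt ind
    (fun {l} hl θ hθ hθ' => by
      obtain ⟨w, hw, h, hf⟩ := G.axis hl hθ' hθ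
      refine ⟨w, G.toPre.hyp_toT hl hw h, fun y => ?_⟩
      rw [hf y]
      constructor
      · intro h1
        exact (smul_eq_zero.1 (add_eq_left.1 h1)).resolve_right (G.ne_zero hl)
      · intro h1
        rw [h1, zero_smul, add_zero])
    fold hl hm ha ham ha1

end Cfsg.Agent.Omega.NO3S.OneQ.Sg

end
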