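import Cfsg.Agent.Mrg.Omega.NO3S.OneQ.InstAny
import Cfsg.Agent.Mrg.Omega.NO3S.OneQ.KOneTIG
import Cfsg.Agent.Mrg.Omega.NO3S.OneQ.InstA
import Cfsg.Agent.Mrg.Omega.NO3S.OneQ.Sg.LocB
import Cfsg.Agent.Mrg.Omega.NO3S.OneQ.Sg.Alt
import Cfsg.Agent.Mrg.Omega.NO3S.OneQ.Sg.Jay


/-!
# NO-3S, `OneSz` (`q ≥ 4`, `n = 1`), case (N), `k ≥ 2`: the record `Sg.SgB` on `MF` and TI (every `D_x`)

* `Co.big_of` : `dim MF / Ē ≥ 2` in the form of `Co.jay`;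
* **`Co.sgB`** : `Sg.SgB`; **`Co.ti_LL`** : TI at all line vectors;
* **`Co.tiw_big`** : `TIw V Z`.
-/

set_option autoImplicit false
set_option linter.unusedSectionVars false

namespace Cfsg.Agent.Omega.NO3S.OneQ.Co

open Subgroup Cfsg Cfsg.Agent.Omega.NO3S.PT Cfsg.Agent.Omega.NoFF.Basic
open scoped Pointwise

universe u

variable {G : Type u} [Group G] [Finite G] {F : Type*} [Field F] [CharP F 2] {S : Sylow 2 G} {B P V Z : Subgroup G}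
  (h : Co F S B P V Z)
include h

/-- `dim MF / Ē ≥ 2` -/
theorem big_of (hk : ¬ ∀ x y : h.MF, x ∉ h.Eb → ∃ c : F, y + c • x ∈ h.Eb) (m : h.MF) :
    ∃ x : h.MF, ∀ c : F, x + c • m ∉ h.Eb := by
  push Not at hk
  obtain ⟨x, y, hx, hy⟩ := hk
  by_contra hcon
  push Not at hcon
  obtain ⟨c, hc⟩ := hcon x
  obtain ⟨d, hd⟩ := hcon y
  have hc0 : c ≠ 0 := by
    rintro rfl
    rw [zero_smul, add_zero] at hc
    exact hx hc
  apply hy (d * c⁻¹)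
  have h1 := h.Eb.add_mem hd (h.Eb.smul_mem (d * c⁻¹) hc)
  have h2 : y + d • m + (d * c⁻¹) • (x + c • m) = y + (d * c⁻¹) • x := by
    rw [smul_add, smul_smul, inv_mul_cancel_right₀ hc0]
    have h3 := h.add_self (d • m)
    calc y + d • m + ((d * c⁻¹) • x + d • m) = y + (d * c⁻¹) • x + (d • m + d • m) := by abel
      _ = _ := by rw [h3, add_zero]
  rwa [h2] at h1

section

variable [Finite F] (hN : NTr V Z) (hq : ∃ ζ : F, ζ ≠ 0 ∧ ζ ≠ 1)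
  (hk : ∀ m : h.MF, ∃ x : h.MF, ∀ c : F, x + c • m ∉ h.Eb)
include hN hq hk

/-- **the record `Sg.SgB`** -/
theorem sgB : Sg.SgB F (TIq.LL F h.HH h.v0) (TIq.AA F h.v0 h.A0) (TIq.II F (H := h.HH) h.v0 h.IF)
    (TIq.AL F h.v0 h.al0) :=
  (h.locW hN hq).toLoc.toSgB (h.sgPre hN hq)
    (fun h1 h2 ha h3 => by
      obtain ⟨j, hj, hj'⟩ := h.J0 hN hk h1 h2 ha h3
      exact ⟨j, (h.mem_IF hN hq).2 hj, hj'⟩)
    fun ha ha1 => h.bs0 ha ha1

/-- **TI at all line vectors** -/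
theorem ti_LL (hG : IsCharacteristicTwoType G) {l m : h.MF} {a : h.HH} (hl : l ∈ TIq.LL F h.HH h.v0)
    (hm : m ∈ TIq.LL F h.HH h.v0) (ha : a ∈ TIq.AA F h.v0 h.A0 l) (ham : a ∈ TIq.AA F h.v0 h.A0 m) (ha1 : a ≠ 1) :
    ∃ c : F, m = c • l := by
  have : Finite h.HH := Set.finite_range h.ru
  have := h.finMF
  have : FiniteDimensional F h.MF := Module.Finite.of_finite
  have D := (h.locW hN hq).toLoc
  obtain ⟨ζ, hζ0, hζ⟩ := hq
  refine (h.sgB hN ⟨ζ, hζ0, hζ⟩ hk).ti_main (h.cop hN hζ0 hζ (fun _ => h.mem_IF hN ⟨ζ, hζ0, hζ⟩) D) ?_ ?_ ?_ ?_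
    hl hm ha ham ha1
  · intro l m x f hl hm h1 h2 hf hfl hfx hx
    exact D.at_K (fun f hf hf0 hy hq a => h.K_v0 hG hN f hf hf0 hy hq a) f hl hm hf hfl hfx hx
  · exact fun hl => D.at_sp (h.sp_v0 hN) hl
  · exact fun hl => D.at_big (h.big_v0 hN hk) hl
  · intro l m hl hm hml hnp hA _
    exact (h.preIA hN ⟨ζ, hζ0, hζ⟩).fold (h.nn_N hN)
      (h.ker_of_Q hG (h.preIA hN ⟨ζ, hζ0, hζ⟩).act) hl hm hnp hA

/-- **`TIw V Z`**, `k ≥ 2`, every `D_x` -/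
theorem tiw_big (hG : IsCharacteristicTwoType G) : TIw V Z := by
  refine h.tiw_of fun c hc hcV a ha b hb hab => ?_
  by_contra hne
  have haC := h.one.W_le_C h.pY ha
  have hbC := h.one.W_le_C h.pY hb
  have hcbC : c * b * c⁻¹ ∈ centralizer (Z : Set G) := mul_mem (mul_mem hc hbC) (inv_mem hc)
  have hK : Ker h.ru.rangeRestrict V := h.ker_of_Q hG (h.preIA hN hq).act
  have h1 : h.rH a haC ≠ 1 := fun h2 => hne (hK a haC h2 fun r hr => by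
    have := inv_mem (h.rd_comm h.pY h.Yp_ne hr ha)
    have e : (r * a * r⁻¹ * a⁻¹)⁻¹ = a * r * a⁻¹ * r⁻¹ := by group
    rwa [e] at this)
  have h2 : h.rH (c * b * c⁻¹) hcbC = h.rH a haC := by
    have h3 := h.rH_K hab
    have e1 := h.rH_mul (inv_mem haC) hcbC
    have e2 := h.rH_inv haC
    rw [e2] at e1
    rw [e1, inv_mul_eq_one] at h3
    exact h3.symm
  have D := (h.locW hN hq).toLoc
  have hv : h.v0 ∈ TIq.LL F h.HH h.v0 := TIq.Loc.self_mem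
  have hm : h.rH c hc • h.v0 ∈ TIq.LL F h.HH h.v0 := TIq.Loc.smul_mem _ hv
  have hA0 : h.rH a haC ∈ TIq.AA F h.v0 h.A0 h.v0 := by
    rw [D.mem_AA (x := 1) (c := 1) one_ne_zero (by rw [one_smul, one_smul]), inv_one, one_mul, mul_one]
    exact h.mem_A0.2 ⟨a, ha, rfl⟩
  have hA1 : h.rH a haC ∈ TIq.AA F h.v0 h.A0 (h.rH c hc • h.v0) := by
    rw [← h2]
    have e1 := h.rH_mul (mul_mem hc hbC) (inv_mem hc)
    have e2 := h.rH_mul hc hbC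
    have e3 := h.rH_inv hc
    rw [e1, e2, e3]
    refine D.at_A_conj _ hv ?_
    rw [D.mem_AA (x := 1) (c := 1) one_ne_zero (by rw [one_smul, one_smul]), inv_one, one_mul, mul_one]
    exact h.mem_A0.2 ⟨b, hb, rfl⟩
  obtain ⟨d, hd⟩ := h.ti_LL hN hq hk hG hv hm hA0 hA1 h1
  exact hcV (cj_eq_iff.2 (h.norm_of_smul_N hN hc hd))

end

end Cfsg.Agent.Omega.NO3S.OneQ.Co
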